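import Mathlib

/-!
# A closed set stable under generalization in a noetherian sober space is open
-/

set_option autoImplicit false
universe u
open TopologicalSpace Topology

namespace RelMinSmLib

/-- In a noetherian sober space a closed set stable under generalization is open. -/
theorem isOpen_of_isClosed_of_stable {A : Type u} [TopologicalSpace A] [NoetherianSpace A] [QuasiSober A]
    {S : Set A} (hS : IsClosed S) (hgen : ∀ a b : A, a ⤳ b → b ∈ S → a ∈ S) : IsOpen S := by
  let T := {Z ∈ irreducibleComponents A | Z ⊆ Sᶜ}
  have hT : T.Finite := NoetherianSpace.finite_irreducibleComponents.subset fun Z hZ => hZ.1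
  have hcompl : Sᶜ = ⋃ Z ∈ T, Z := by
    apply Set.Subset.antisymm
    · intro a ha
      obtain ⟨Z, hZ, haZ⟩ := exists_mem_irreducibleComponents_subset_of_isIrreducible {a} isIrreducible_singleton
      obtain ⟨g, hg⟩ := QuasiSober.sober hZ.1 (isClosed_of_mem_irreducibleComponents Z hZ)
      have hga : g ⤳ a := hg.specializes (haZ rfl)
      refine Set.mem_biUnion (show Z ∈ T from ⟨hZ, fun b hb hbS => ?_⟩) (haZ rfl)
      exact ha (hga.mem_closed hS (hgen g b (hg.specializes hb) hbS))
    · exact Set.iUnion₂_subset fun Z hZ => hZ.2
  rw [← isClosed_compl_iff, hcompl]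
  exact hT.isClosed_biUnion fun Z hZ => isClosed_of_mem_irreducibleComponents Z hZ.1

/-- In a noetherian sober space, a point which is not isolated is not closed or has a proper generalization. -/
theorem exists_specializes_of_not_isOpen {A : Type u} [TopologicalSpace A] [NoetherianSpace A] [QuasiSober A]
    [T0Space A] {w : A} (hw : ¬ IsOpen ({w} : Set A)) :
    ∃ z x : A, z ⤳ w ∧ z ⤳ x ∧ z ≠ x := by
  by_contra h
  push_neg at h
  refine hw (isOpen_of_isClosed_of_stable ?_ ?_)
  · rw [← closure_subset_iff_isClosed]
    intro x hx
    exact (h w x specializes_rfl (specializes_iff_mem_closure.2 hx)).symm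
  · rintro a b hab rfl
    exact h a b hab hab

end RelMinSmLib
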