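import Groth.Prelude.Def_ArSurf
import Groth.Agent.RelMinSmLib.Topology
import Groth.Agent.ChowLib.Embed
import Groth.Agent.AffContLib.Semi
import Groth.Agent.S1655
import Groth.Agent.S9829
import Groth.Agent.StrictSSLib.NodeBranch
import Groth.Agent.FibDimLib.Semicont
import Groth.Agent.FibDimLib.TopLocalDim
import Groth.Agent.FibDimLib.Pure

/-!
# A smooth arithmetic surface admits no contraction
-/

set_option autoImplicit false
set_option backward.isDefEq.respectTransparency false
set_option linter.style.haveILetI false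
set_option maxHeartbeats 800000
universe u
open AlgebraicGeometry CategoryTheory CategoryTheory.Limits TopologicalSpace Topology

namespace RelMinSmLib

theorem not_four {A : Type u} [TopologicalSpace A] [T0Space A] [QuasiSober A]
    (hd : topologicalKrullDim A ≤ 2) {a b c d : A} (hab : a ⤳ b) (hbc : b ⤳ c) (hcd : c ⤳ d)
    (nab : a ≠ b) (nbc : b ≠ c) (ncd : c ≠ d) : False := by
  have nac : a ≠ c := fun h => nbc (((hbc.antisymm (h ▸ hab))).eq)
  have nbd : b ≠ d := fun h => ncd (((hcd.antisymm (h ▸ hbc))).eq)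
  have nad : a ≠ d := fun h => ncd (((hcd.antisymm (h ▸ hab.trans hbc))).eq)
  have hch : FibDimLib.IsSpecChain (n := 3) ![a, b, c, d] := by
    constructor
    · intro i j
      fin_cases i <;> fin_cases j <;>
        simp [nab, nab.symm, nbc, nbc.symm, ncd, ncd.symm, nac, nac.symm, nbd, nbd.symm, nad, nad.symm]
    · intro i j hij
      fin_cases i <;> fin_cases j <;>
        first
          | exact absurd hij (by decide)
          | simp [specializes_rfl, hab, hbc, hcd, hab.trans hbc, hbc.trans hcd, (hab.trans hbc).trans hcd]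
  exact absurd (hch.le_topologicalKrullDim.trans hd) (by decide)

variable {R : Type u} [CommRing R] [IsDomain R]

/-- The image of the generic point of `R`. -/
noncomputable def eta : Spec (CommRingCat.of R) :=
  Neron.genPt R (IsLocalRing.closedPoint (FractionRing R))

theorem range_genPt : Set.range (Neron.genPt R) = {eta (R := R)} := by
  haveI : Subsingleton ↥(Spec (CommRingCat.of (FractionRing R))) :=
    inferInstanceAs (Subsingleton (PrimeSpectrum (FractionRing R)))
  ext p
  exact ⟨fun ⟨a, ha⟩ => ha ▸ congrArg _ (Subsingleton.elim _ _), fun h => ⟨_, h.symm⟩⟩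

theorem eta_specializes (p : Spec (CommRingCat.of R)) : eta (R := R) ⤳ p := by
  change (eta (R := R) : PrimeSpectrum R) ⤳ p
  rw [← PrimeSpectrum.le_iff_specializes]
  show (eta (R := R) : PrimeSpectrum R).asIdeal ≤ p.asIdeal
  intro r hr
  have h : r = 0 := by
    have h1 : algebraMap R (FractionRing R) r ∈ IsLocalRing.maximalIdeal (FractionRing R) := hr
    rw [IsLocalRing.maximalIdeal_eq_bot, Ideal.mem_bot] at h1
    exact IsFractionRing.injective R (FractionRing R) (h1.trans (map_zero _).symm)
  exact h ▸ zero_mem _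

instance flat_genPt : Flat (Neron.genPt R) := by
  rw [HasRingHomProperty.Spec_iff (P := @Flat)]
  change RingHom.Flat (algebraMap R (FractionRing R))
  rw [RingHom.flat_algebraMap_iff]
  exact IsLocalization.flat _ (nonZeroDivisors R)

instance isPreimmersion_genPt : IsPreimmersion (Neron.genPt R) :=
  IsPreimmersion.of_isLocalization (nonZeroDivisors R)

variable {X Y : Over (Spec (CommRingCat.of R))} (g : X ⟶ Y) [IsIso ((Neron.genericFibre R).map g)]

theorem map_left_fst : ((Neron.genericFibre R).map g).left ≫ pullback.fst Y.hom (Neron.genPt R) =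
    pullback.fst X.hom (Neron.genPt R) ≫ g.left := by
  simp [Neron.genericFibre, Over.pullback]

theorem bijOn_generic :
    Set.BijOn g.left {x | X.hom x = eta (R := R)} {y | Y.hom y = eta (R := R)} := by
  haveI : IsIso ((Neron.genericFibre R).map g).left := inferInstance
  set g' := ((Neron.genericFibre R).map g).left
  have hX : Set.range (pullback.fst X.hom (Neron.genPt R)) = {x | X.hom x = eta (R := R)} := by
    rw [Scheme.Pullback.range_fst, range_genPt]; rfl
  have hY : Set.range (pullback.fst Y.hom (Neron.genPt R)) = {y | Y.hom y = eta (R := R)} := by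
    rw [Scheme.Pullback.range_fst, range_genPt]; rfl
  have hc : ∀ a, pullback.fst Y.hom (Neron.genPt R) (g' a) = g.left (pullback.fst X.hom (Neron.genPt R) a) :=
    fun a => congr($(map_left_fst g) a)
  refine ⟨fun x hx => ?_, fun x₁ h₁ x₂ h₂ h => ?_, fun y hy => ?_⟩
  · show Y.hom (g.left x) = _
    rw [← Scheme.Hom.comp_apply, Over.w g]; exact hx
  · rw [← hX] at h₁ h₂
    obtain ⟨a₁, rfl⟩ := h₁
    obtain ⟨a₂, rfl⟩ := h₂
    rw [← hc, ← hc] at h
    have h' := (pullback.fst Y.hom (Neron.genPt R)).isEmbedding.injective h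
    rw [g'.homeomorph.injective h']
  · rw [← hY] at hy
    obtain ⟨b, rfl⟩ := hy
    obtain ⟨a, rfl⟩ := g'.homeomorph.surjective b
    exact ⟨_, hX ▸ ⟨a, rfl⟩, (hc a).symm⟩

theorem isIso_stalkMap_generic (x : X.left) (hx : X.hom x = eta (R := R)) : IsIso (g.left.stalkMap x) := by
  haveI : IsIso ((Neron.genericFibre R).map g).left := inferInstance
  set g' := ((Neron.genericFibre R).map g).left
  obtain ⟨a, rfl⟩ : x ∈ Set.range (pullback.fst X.hom (Neron.genPt R)) := by
    rw [Scheme.Pullback.range_fst, range_genPt]; exact hx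
  set px := pullback.fst X.hom (Neron.genPt R)
  set py := pullback.fst Y.hom (Neron.genPt R)
  haveI h1 : IsIso (px.stalkMap a) :=
    (ConcreteCategory.isIso_iff_bijective _).2 (AffContLib.bijective_stalkMap_of_flat_preimmersion px a)
  haveI h2 : IsIso (py.stalkMap (g' a)) :=
    (ConcreteCategory.isIso_iff_bijective _).2 (AffContLib.bijective_stalkMap_of_flat_preimmersion py (g' a))
  haveI h3 : IsIso ((g' ≫ py).stalkMap a) := by
    rw [Scheme.Hom.stalkMap_comp]; infer_instance
  haveI h4 : IsIso ((px ≫ g.left).stalkMap a) := by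
    exact IsIso.of_isIso_fac_left
      (Scheme.Hom.stalkMap_congr_hom (g' ≫ py) (px ≫ g.left) (map_left_fst g) a).symm
  rw [Scheme.Hom.stalkMap_comp] at h4
  exact IsIso.of_isIso_comp_right (g.left.stalkMap (px a)) (px.stalkMap a)

omit g in
theorem qf_of_finite {A B : Scheme.{u}} (f : A ⟶ B) [LocallyOfFiniteType f] (x : A) (h : (f ⁻¹' {f x}).Finite) :
    f.QuasiFiniteAt x := by
  have : Finite (f.fiber (f x)) := (f.fiberHomeo (f x)).finite_iff.mpr h
  exact Scheme.Hom.quasiFiniteAt_iff_isOpen_singleton_asFiber.mpr (isOpen_discrete _)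

omit g in
theorem specializes_fiber {A B : Scheme.{u}} (f : A ⟶ B) (b : B) {p q : f.fiber b}
    (h : f.fiberι b p ⤳ f.fiberι b q) : p ⤳ q :=
  (f.fiberι b).isEmbedding.isInducing.specializes_iff.1 h

omit g in
theorem closed_of_isOpen_singleton {A B : Scheme.{u}} (f : A ⟶ B) [LocallyOfFiniteType f] (b : B)
    {p : f.fiber b} (h : IsOpen ({p} : Set (f.fiber b))) : IsClosed ({p} : Set (f.fiber b)) := by
  obtain ⟨q, hq, hqc⟩ := nonempty_inter_closedPoints (X := f.fiber b) (Z := {p}) (Set.singleton_nonempty _) h.isLocallyClosed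
  obtain rfl := Set.mem_singleton_iff.1 hq
  exact hqc

theorem isIso_left [IsNoetherianRing R] [Smooth X.hom] [IsProper X.hom] [IsProper Y.hom] [Flat Y.hom]
    [IsIntegral X.left] (hd : topologicalKrullDim X.left ≤ 2)
    (hY : ∀ y : Y.left, IsRegularLocalRing (Y.left.presheaf.stalk y)) : IsIso g.left := by
  classical
  haveI : IsProper (g.left ≫ Y.hom) := by rw [Over.w g]; infer_instance
  haveI : IsProper g.left := IsProper.of_comp g.left Y.hom
  haveI : IsLocallyNoetherian Y.left := LocallyOfFiniteType.isLocallyNoetherian Y.hom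
  haveI : CompactSpace Y.left := QuasiCompact.compactSpace_of_compactSpace Y.hom
  haveI : IsNoetherian Y.left := ⟨⟩
  have hw : ∀ x, Y.hom (g.left x) = X.hom x := fun x => by rw [← Scheme.Hom.comp_apply, Over.w g]
  have hbij := bijOn_generic g
  set ξ := genericPoint X.left
  have hξ : ∀ x, ξ ⤳ x := fun x => (genericPoint_spec X.left).specializes trivial
  have hξη : X.hom ξ = eta (R := R) := by
    obtain ⟨x', -, hx'⟩ := Flat.generalizingMap X.hom (eta_specializes (X.hom ξ))
    exact ((hx' ▸ (hξ x').map X.hom.continuous).antisymm (eta_specializes _)).eq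
  -- the target is integral
  have hgen : ∀ y, g.left ξ ⤳ y := fun y => by
    obtain ⟨y', hy', hy'η⟩ := Flat.generalizingMap Y.hom (eta_specializes (Y.hom y))
    obtain ⟨x', -, rfl⟩ := hbij.surjOn hy'η
    exact ((hξ x').map g.left.continuous).trans hy'
  have hgen' : IsGenericPoint (g.left ξ) (Set.univ : Set Y.left) :=
    Set.eq_univ_of_forall fun y => specializes_iff_mem_closure.1 (hgen y)
  haveI : IrreducibleSpace Y.left :=
    { toPreirreducibleSpace := ⟨hgen'.isIrreducible.2⟩, toNonempty := ⟨g.left ξ⟩ }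
  haveI : IsReduced Y.left := by
    haveI : ∀ y : Y.left, _root_.IsReduced (Y.left.presheaf.stalk y) := fun y => by
      haveI := hY y
      haveI := CommAlgDim.isDomain_of_isRegularLocalRing (Y.left.presheaf.stalk y)
      infer_instance
    exact isReduced_of_isReduced_stalk Y.left
  haveI : IsIntegral Y.left := isIntegral_of_irreducibleSpace_of_isReduced Y.left
  have hdom : g.left ξ = genericPoint Y.left := hgen'.eq (genericPoint_spec Y.left)
  have hnormal : ∀ y : Y.left, IsIntegrallyClosed (Y.left.presheaf.stalk y) := fun y =>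
    haveI := hY y; Groth.Agent.S9829.result _
  have hfib : ∀ y, Y.hom y = eta (R := R) → (g.left ⁻¹' {y}).Finite := fun y hy => by
    refine Set.Subsingleton.finite fun a ha b hb => hbij.injOn ?_ ?_ (ha.trans hb.symm)
    · show X.hom a = _; rw [← hw, ha]; exact hy
    · show X.hom b = _; rw [← hw, hb]; exact hy
  -- birationality
  obtain ⟨V₀, hξV₀, hV₀⟩ := exists_isFinite_morphismRestrict_of_finite_preimage_singleton g.left (g.left ξ)
    (hfib _ (by rw [hw, hξη]))
  obtain ⟨W, hξW, hW⟩ := BiratLib.exists_isIso_near' g.left hV₀ hdom (isIso_stalkMap_generic g ξ hξη)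
    (g.left ξ) hξV₀ (hnormal _)
  -- surjectivity
  have hsurj : Function.Surjective g.left := fun y =>
    (hgen y).mem_closed g.left.isClosedMap.isClosed_range ⟨ξ, rfl⟩
  -- a quasi-finite point in each fibre
  have key : ∀ y : Y.left, ∃ w, g.left w = y ∧ g.left.QuasiFiniteAt w := by
    intro y
    by_contra hy
    push_neg at hy
    obtain ⟨w₀, hw₀⟩ := hsurj y
    have hs : Y.hom y ≠ eta (R := R) := fun h => hy w₀ hw₀ (qf_of_finite g.left w₀ (hw₀ ▸ hfib y h))
    set s := Y.hom y
    have hover : ∀ x, g.left x = y → X.hom x = s := fun x hx => by rw [← hw, hx]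
    have hne : ∀ z, X.hom z = s → ξ ≠ z := fun z hz h => hs (hz.symm.trans (h ▸ hξη))
    -- positive dimensional pieces
    have hpos : ∀ w, g.left w = y → ∃ z x, g.left z = y ∧ g.left x = y ∧ z ⤳ w ∧ z ⤳ x ∧ z ≠ x := by
      intro w hw'
      subst hw'
      have hn := fun h => hy w rfl (Scheme.Hom.quasiFiniteAt_iff_isOpen_singleton_asFiber.mpr h)
      haveI : IsNoetherian (g.left.fiber (g.left w)) := by
        haveI : LocallyOfFiniteType (g.left.fiberToSpecResidueField (g.left w)) :=
          MorphismProperty.pullback_snd _ _ (inferInstance : LocallyOfFiniteType g.left)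
        haveI := LocallyOfFiniteType.isLocallyNoetherian (g.left.fiberToSpecResidueField (g.left w))
        exact ⟨⟩
      obtain ⟨z, x, hzw, hzx, hne'⟩ := exists_specializes_of_not_isOpen hn
      refine ⟨g.left.fiberι _ z, g.left.fiberι _ x, ?_, ?_, ?_, hzx.map (g.left.fiberι _).continuous, ?_⟩
      · exact (g.left.range_fiberι _).le ⟨z, rfl⟩
      · exact (g.left.range_fiberι _).le ⟨x, rfl⟩
      · have := hzw.map (g.left.fiberι (g.left w)).continuous
        rwa [g.left.fiberι_asFiber] at this
      · exact fun h => hne' ((g.left.fiberι _).isEmbedding.injective h)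
    have hmax : ∀ z x, g.left z = y → g.left x = y → z ⤳ x → z ≠ x →
        ∀ z', X.hom z' = s → z' ⤳ z → z' = z := fun z x hz _ hzx hne' z' hz' hz'z => by
      by_contra h
      exact not_four hd (hξ z') hz'z hzx (hne z' hz') h hne'
    obtain ⟨z₁, x₁, hz₁, hx₁, -, hzx₁, hne₁⟩ := hpos w₀ hw₀
    -- `y` is closed
    have hyc : ∀ y', y ⤳ y' → y' = y := fun y' h => by
      by_contra hh
      obtain ⟨x', hx', hgx'⟩ := g.left.isClosedMap.specializingMap (hx₁ ▸ h : g.left x₁ ⤳ y')
      exact not_four hd (hξ z₁) hzx₁ hx' (hne _ (hover _ hz₁)) hne₁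
        (fun e => hh (hgx'.symm.trans (e ▸ hx₁)))
    have hyclosed : IsClosed ({y} : Set Y.left) :=
      closure_subset_iff_isClosed.1 fun y' h => hyc y' (specializes_iff_mem_closure.2 h)
    have hsclosed : IsClosed ({s} : Set (Spec (CommRingCat.of R))) := by
      have h := Y.hom.isClosedMap _ hyclosed
      rwa [Set.image_singleton] at h
    -- the fibre over `y` is open in the closed fibre
    haveI : IsNoetherian (X.hom.fiber s) := by
      haveI : LocallyOfFiniteType (X.hom.fiberToSpecResidueField s) :=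
        MorphismProperty.pullback_snd _ _ (inferInstance : LocallyOfFiniteType X.hom)
      haveI := LocallyOfFiniteType.isLocallyNoetherian (X.hom.fiberToSpecResidueField s)
      exact ⟨⟩
    set ιX := X.hom.fiberι s
    set T : Set (X.hom.fiber s) := ιX ⁻¹' (g.left ⁻¹' {y})
    have hιX : ∀ p, X.hom (ιX p) = s := fun p => (X.hom.range_fiberι s).le ⟨p, rfl⟩
    have hTc : IsClosed T := (hyclosed.preimage g.left.continuous).preimage ιX.continuous
    have hTo : IsOpen T := by
      refine isOpen_of_isClosed_of_stable hTc fun a b hab hb => ?_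
      obtain ⟨z, x, hz, hx, hzw, hzx, hne'⟩ := hpos (ιX b) hb
      obtain ⟨zf, hzf⟩ : z ∈ Set.range ιX := (X.hom.range_fiberι s).ge (hover z hz)
      have hzb : zf ⤳ b := specializes_fiber X.hom s (by rwa [← hzf] at hzw)
      haveI : IsDomain ((X.hom.fiber s).presheaf.stalk b) := by
        have h := StrictSSLib.isDomain_stalk_fibre X.hom (ιX b)
          (by rw [X.hom.smoothLocus_eq_top]; trivial)
        have e : ∀ (t : Spec (CommRingCat.of R)) (c : X.hom.fiber t), X.hom (X.hom.fiberι t c) = t :=
          fun t c => (X.hom.range_fiberι t).le ⟨c, rfl⟩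
        have aux : ∀ (x : X.left) (t : Spec (CommRingCat.of R)) (ht : X.hom x = t) (c : X.hom.fiber t),
            X.hom.fiberι t c = x → IsDomain ((X.hom.fiber (X.hom x)).presheaf.stalk (X.hom.asFiber x)) →
            IsDomain ((X.hom.fiber t).presheaf.stalk c) := by
          rintro x _ rfl c hc hd'
          obtain rfl : c = X.hom.asFiber x := (X.hom.fiberι _).isEmbedding.injective
            (hc.trans (X.hom.fiberι_asFiber x).symm)
          exact hd'
        exact aux (ιX b) s (hιX b) b rfl h
      obtain ⟨pa, hpa⟩ : a ∈ Set.range ((X.hom.fiber s).fromSpecStalk b) := by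
        rw [Scheme.range_fromSpecStalk]; exact hab
      obtain ⟨pz, hpz⟩ : zf ∈ Set.range ((X.hom.fiber s).fromSpecStalk b) := by
        rw [Scheme.range_fromSpecStalk]; exact hzb
      set p₀ := genericPoint ↥(Spec ((X.hom.fiber s).presheaf.stalk b))
      have h0 : ∀ p, (X.hom.fiber s).fromSpecStalk b p₀ ⤳ (X.hom.fiber s).fromSpecStalk b p := fun p =>
        ((genericPoint_spec _).specializes trivial).map ((X.hom.fiber s).fromSpecStalk b).continuous
      have hz0 : ιX ((X.hom.fiber s).fromSpecStalk b p₀) = z :=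
        hmax z x hz hx hzx hne' _ (hιX _) (hzf ▸ ((hpz ▸ h0 pz).map ιX.continuous))
      have hza : z ⤳ ιX a := hz0 ▸ ((hpa ▸ h0 pa).map ιX.continuous)
      exact hyc _ (hz ▸ hza.map g.left.continuous)
    -- hence `y` is isolated in its fibre
    have hιemb : IsClosedEmbedding ιX :=
      ⟨ιX.isEmbedding, by rw [X.hom.range_fiberι]; exact hsclosed.preimage X.hom.continuous⟩
    set A := g.left '' (ιX '' Tᶜ)
    have hA : IsClosed A := g.left.isClosedMap _ (hιemb.isClosedMap _ hTo.isClosed_compl)
    have hyqf : Y.hom.QuasiFiniteAt y := by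
      rw [Scheme.Hom.quasiFiniteAt_iff_isOpen_singleton_asFiber]
      have : ({Y.hom.asFiber y} : Set (Y.hom.fiber (Y.hom y))) = ((Y.hom.fiberι (Y.hom y)) ⁻¹' A)ᶜ := by
        ext p
        refine ⟨?_, fun hp => ?_⟩
        · rintro rfl ⟨_, ⟨q, hq, rfl⟩, hqy⟩
          rw [Y.hom.fiberι_asFiber] at hqy
          exact hq hqy
        · apply (Y.hom.fiberι (Y.hom y)).isEmbedding.injective
          rw [Y.hom.fiberι_asFiber]
          by_contra hh
          obtain ⟨x, hx⟩ := hsurj (Y.hom.fiberι (Y.hom y) p)
          have hxs : X.hom x = s := by rw [← hw, hx]; exact (Y.hom.range_fiberι _).le ⟨p, rfl⟩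
          obtain ⟨q, rfl⟩ : x ∈ Set.range ιX := (X.hom.range_fiberι s).ge hxs
          exact hp ⟨_, ⟨q, fun hq => hh (hx.symm.trans hq), rfl⟩, hx⟩
      rw [this]
      exact (hA.preimage (Y.hom.fiberι _).continuous).isOpen_compl
    -- the generic fibre is a point
    have hgqf : Y.hom.QuasiFiniteAt (g.left ξ) :=
      (hgen y).mem_open Y.hom.quasiFiniteLocus.isOpen hyqf
    have hsingle : ∀ x, X.hom x = eta (R := R) → x = ξ := fun x hx => by
      refine hbij.injOn hx hξη ?_
      have hop := Scheme.Hom.quasiFiniteAt_iff_isOpen_singleton_asFiber.mp hgqf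
      obtain ⟨q, hq⟩ : g.left x ∈ Set.range (Y.hom.fiberι (Y.hom (g.left ξ))) :=
        (Y.hom.range_fiberι _).ge (show Y.hom (g.left x) = Y.hom (g.left ξ) by rw [hw, hw, hx, hξη])
      have hsp : Y.hom.asFiber (g.left ξ) ⤳ q := specializes_fiber Y.hom _ (by
        rw [Y.hom.fiberι_asFiber, hq]; exact hgen _)
      have := hsp.mem_closed (closed_of_isOpen_singleton Y.hom _ hop) rfl
      rw [← hq, Set.mem_singleton_iff.1 this, Y.hom.fiberι_asFiber]
    have hX0 : FlatMor.fibreDimAt X.hom ξ ≤ 0 := by
      have hfin : Finite (X.hom.fiber (X.hom ξ)) := (X.hom.fiberHomeo (X.hom ξ)).finite_iff.mpr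
        ((Set.finite_singleton ξ).subset fun x hx => hsingle x (hx.trans hξη))
      exact FibDimLib.localDim_le_zero_of_isOpen (isOpen_discrete _)
    have hz0 : FlatMor.fibreDimAt X.hom z₁ ≤ 0 :=
      (FibDimLib.fibreDimAt_eq_of_flat X.hom (hξ z₁) fun z' hz' hzz' =>
        hmax z₁ x₁ hz₁ hx₁ hzx₁ hne₁ z' (hz'.trans (hover _ hz₁))
          (specializes_iff_mem_closure.2 hzz')).ge.trans hX0
    set F₁ := X.hom.fiber (X.hom z₁)
    haveI : IsNoetherian F₁ := by
      haveI : LocallyOfFiniteType (X.hom.fiberToSpecResidueField (X.hom z₁)) :=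
        MorphismProperty.pullback_snd _ _ (inferInstance : LocallyOfFiniteType X.hom)
      haveI := LocallyOfFiniteType.isLocallyNoetherian (X.hom.fiberToSpecResidueField (X.hom z₁))
      exact ⟨⟩
    have hopen : IsOpen ({X.hom.asFiber z₁} : Set F₁) :=
      (FibDimLib.localDim_eq_zero_iff _ (fun U hU => ⟨U, hU, le_rfl, inferInstance⟩)).1
        (le_antisymm hz0 (FibDimLib.localDim_nonneg _))
    obtain ⟨q, hq⟩ : x₁ ∈ Set.range (X.hom.fiberι (X.hom z₁)) :=
      (X.hom.range_fiberι _).ge (show X.hom x₁ = X.hom z₁ by rw [hover _ hz₁, hover _ hx₁])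
    have hsp : X.hom.asFiber z₁ ⤳ q := specializes_fiber X.hom _ (by
      rw [X.hom.fiberι_asFiber, hq]; exact hzx₁)
    have := hsp.mem_closed (closed_of_isOpen_singleton X.hom _ hopen) rfl
    rw [Set.mem_singleton_iff.1 this, X.hom.fiberι_asFiber] at hq
    exact hne₁ hq
  -- conclusion
  have hloc : ∀ y, ∃ V : Y.left.Opens, y ∈ V ∧ IsIso (g.left ∣_ V) := fun y => by
    obtain ⟨w, hw', hqf⟩ := key y
    exact Groth.Agent.S1655.result g.left W ⟨_, hξW⟩ hW y (hnormal y) w hw' hqf
  choose V hV hVi using hloc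
  exact IsZariskiLocalAtTarget.of_iSup_eq_top (P := MorphismProperty.isomorphisms Scheme) V
    (eq_top_iff.2 fun y _ => Opens.mem_iSup.2 ⟨y, hV y⟩) hVi

end RelMinSmLib
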